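import Groth.Agent.Lib.Helper18.Tor.LES

/-!
# Tor over `ModuleCat R`: `Tor₀`, flat vanishing, and `Tor₁` via presentations
-/

set_option autoImplicit false

open CategoryTheory Limits MonoidalCategory

namespace Groth.Agent.Helper18.TorLib

universe u
variable {R : Type u} [CommRing R]

instance (N : ModuleCat.{u} R) : PreservesFiniteColimits (tL N) :=
  inferInstanceAs (PreservesFiniteColimits (tensorLeft N))

/-- `Tor₀(N, M) ≅ N ⊗ M`. -/
noncomputable def tor0Iso (N M : ModuleCat.{u} R) :
    ((Tor (ModuleCat.{u} R) 0).obj N).obj M ≅ N ⊗ M :=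
  (Functor.leftDerivedZeroIsoSelf (tL N)).app M

lemma tor0Iso_hom_naturality {N N' : ModuleCat.{u} R} (f : N ⟶ N') (M : ModuleCat.{u} R) :
    ((Tor (ModuleCat.{u} R) 0).map f).app M ≫ (tor0Iso N' M).hom =
      (tor0Iso N M).hom ≫ (f ▷ M) :=
  leftDerived_zero_comp_fromLeftDerivedZero ((tensoringLeft (ModuleCat.{u} R)).map f) M

/-- Higher Tor vanishes when the first variable is flat. -/
lemma isZero_tor_succ_of_flat_left (N M : ModuleCat.{u} R) [Module.Flat R N] (n : ℕ) :
    IsZero (((Tor (ModuleCat.{u} R) (n + 1)).obj N).obj M) := by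
  haveI : PreservesFiniteLimits (tL N) :=
    inferInstanceAs (PreservesFiniteLimits (tensorLeft N))
  let P := projectiveResolution M
  refine IsZero.of_iso ?_ (torIso P N (n + 1))
  erw [← HomologicalComplex.exactAt_iff_isZero_homology]
  exact (P.complex_exactAt_succ n).map (tL N)

lemma mono_tor0_map_iff {N N' : ModuleCat.{u} R} (f : N ⟶ N') (M : ModuleCat.{u} R) :
    Mono (((Tor (ModuleCat.{u} R) 0).map f).app M) ↔ Mono (f ▷ M) := by
  have h := tor0Iso_hom_naturality f M
  constructor
  · intro _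
    have : f ▷ M = (tor0Iso N M).inv ≫ ((Tor (ModuleCat.{u} R) 0).map f).app M ≫
        (tor0Iso N' M).hom := by rw [h, Iso.inv_hom_id_assoc]
    rw [this]
    infer_instance
  · intro _
    have : ((Tor (ModuleCat.{u} R) 0).map f).app M =
        (tor0Iso N M).hom ≫ (f ▷ M) ≫ (tor0Iso N' M).inv := by
      rw [← reassoc_of% h, Iso.hom_inv_id, Category.comp_id]
    rw [this]
    infer_instance

/-- For a short exact sequence `0 → K → F → N → 0` with `F` flat, `Tor₁(N, M) = 0` iff
`K ⊗ M → F ⊗ M` is a monomorphism. -/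
lemma isZero_tor_one_iff_mono {S : ShortComplex (ModuleCat.{u} R)} (hS : S.ShortExact)
    [Module.Flat R S.X₂] (M : ModuleCat.{u} R) :
    IsZero (((Tor (ModuleCat.{u} R) 1).obj S.X₃).obj M) ↔ Mono (S.f ▷ M) := by
  rw [← mono_tor0_map_iff]
  constructor
  · intro hz
    exact (tor_exact₁ hS M 0).mono_g (hz.eq_of_src _ _)
  · intro hm
    have hδ : torδ hS M 0 = 0 := by
      rw [← cancel_mono (((Tor (ModuleCat.{u} R) 0).map S.f).app M), torδ_comp, zero_comp]
    have hepi : Epi (((Tor (ModuleCat.{u} R) (0 + 1)).map S.g).app M) :=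
      (tor_exact₃ hS M 0).epi_f hδ
    have hz : IsZero (((Tor (ModuleCat.{u} R) (0 + 1)).obj S.X₂).obj M) :=
      isZero_tor_succ_of_flat_left S.X₂ M 0
    exact IsZero.of_epi (((Tor (ModuleCat.{u} R) (0 + 1)).map S.g).app M) hz

lemma mono_whiskerRight_iff {N N' : ModuleCat.{u} R} (f : N ⟶ N') (M : ModuleCat.{u} R) :
    Mono (f ▷ M) ↔ Function.Injective (f.hom.rTensor M) := by
  rw [ModuleCat.mono_iff_injective, ← ModuleCat.hom_whiskerRight]

/-- Linear-algebra form: for an exact sequence `0 → K → F → N → 0` of `R`-modules with `F` flat,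
`Tor₁(N, M) = 0` iff `K ⊗ M → F ⊗ M` is injective. -/
lemma isZero_tor_one_iff_injective {K F N M : Type u} [AddCommGroup K] [Module R K]
    [AddCommGroup F] [Module R F] [AddCommGroup N] [Module R N] [AddCommGroup M] [Module R M]
    [Module.Flat R F] (i : K →ₗ[R] F) (p : F →ₗ[R] N) (hi : Function.Injective i)
    (hip : Function.Exact i p) (hp : Function.Surjective p) :
    IsZero (((Tor (ModuleCat.{u} R) 1).obj (ModuleCat.of R N)).obj (ModuleCat.of R M)) ↔
      Function.Injective (i.rTensor M) := by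
  let S : ShortComplex (ModuleCat.{u} R) :=
    ShortComplex.mk (ModuleCat.ofHom i) (ModuleCat.ofHom p) (by
      ext x
      exact hip.apply_apply_eq_zero x)
  have hS : S.ShortExact := by
    refine ShortComplex.ShortExact.mk' ?_ ?_ ?_
    · rw [ShortComplex.ShortExact.moduleCat_exact_iff_function_exact]
      exact hip
    · exact (ModuleCat.mono_iff_injective _).2 hi
    · exact (ModuleCat.epi_iff_surjective _).2 hp
  have : Module.Flat R S.X₂ := ‹Module.Flat R F›
  have := isZero_tor_one_iff_mono hS (ModuleCat.of R M)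
  rw [mono_whiskerRight_iff] at this
  exact this

end Groth.Agent.Helper18.TorLib
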