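import Mathlib

/-!
# Tor over `ModuleCat R`: long exact sequence in the first variable

Mathlib's `Tor (ModuleCat R) n` is left-derived in the second variable.  Using that projective
modules are flat, we derive the long exact sequence in the *first* variable.
-/

set_option autoImplicit false

open CategoryTheory Limits MonoidalCategory

namespace Groth.Agent.Helper18.TorLib

universe u
variable {R : Type u} [CommRing R]

/-- `N ⊗ -` as a functor. -/
noncomputable abbrev tL (N : ModuleCat.{u} R) : ModuleCat.{u} R ⥤ ModuleCat.{u} R :=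
  (tensoringLeft (ModuleCat.{u} R)).obj N

/-- The complex `N ⊗ P•`. -/
noncomputable abbrev cx {M : ModuleCat.{u} R} (P : ProjectiveResolution M) (N : ModuleCat.{u} R) :
    ChainComplex (ModuleCat.{u} R) ℕ :=
  ((tL N).mapHomologicalComplex (ComplexShape.down ℕ)).obj P.complex

/-- The map `N ⊗ P• ⟶ N' ⊗ P•`. -/
noncomputable abbrev cxMap {M : ModuleCat.{u} R} (P : ProjectiveResolution M)
    {N N' : ModuleCat.{u} R} (f : N ⟶ N') : cx P N ⟶ cx P N' :=
  (NatTrans.mapHomologicalComplex ((tensoringLeft (ModuleCat.{u} R)).map f)
    (ComplexShape.down ℕ)).app P.complex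

lemma cxMap_comp {M : ModuleCat.{u} R} (P : ProjectiveResolution M)
    {N N' N'' : ModuleCat.{u} R} (f : N ⟶ N') (g : N' ⟶ N'') :
    cxMap P (f ≫ g) = cxMap P f ≫ cxMap P g := by
  ext i
  simp [cxMap]

lemma cxMap_zero {M : ModuleCat.{u} R} (P : ProjectiveResolution M)
    (N N' : ModuleCat.{u} R) : cxMap P (0 : N ⟶ N') = 0 := by
  apply HomologicalComplex.hom_ext
  intro i
  simp [cxMap]
  rfl

/-- The short complex of complexes `S ⊗ P•`. -/
noncomputable abbrev cxShortComplex {M : ModuleCat.{u} R} (P : ProjectiveResolution M)
    (S : ShortComplex (ModuleCat.{u} R)) : ShortComplex (ChainComplex (ModuleCat.{u} R) ℕ) :=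
  ShortComplex.mk (cxMap P S.f) (cxMap P S.g) (by rw [← cxMap_comp, S.zero, cxMap_zero])

lemma flat_of_projective (X : ModuleCat.{u} R) [Projective X] : Module.Flat R X := by
  have : Module.Projective R X := by
    have : Projective (ModuleCat.of R X) := ‹_›
    exact (IsProjective.iff_projective (R := R) (P := X)).2 this
  infer_instance

lemma cxShortComplex_shortExact {M : ModuleCat.{u} R} (P : ProjectiveResolution M)
    {S : ShortComplex (ModuleCat.{u} R)} (hS : S.ShortExact) :
    (cxShortComplex P S).ShortExact := by
  apply HomologicalComplex.shortExact_of_degreewise_shortExact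
  intro i
  have : Module.Flat R (P.complex.X i) := flat_of_projective _
  exact hS.map_of_exact (tensorRight (P.complex.X i))

end Groth.Agent.Helper18.TorLib
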