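import Groth.Agent.Lib.Helper18.Tor.Basic

/-!
# Tor over `ModuleCat R`: long exact sequence in the first variable, `Tor₀`
-/

set_option autoImplicit false

open CategoryTheory Limits MonoidalCategory

namespace Groth.Agent.Helper18.TorLib

section General

variable {C D : Type*} [Category C] [Abelian C] [HasProjectiveResolutions C]
  [Category D] [Abelian D]

/-- Naturality of `fromLeftDerivedZero` in the functor. -/
lemma leftDerived_zero_comp_fromLeftDerivedZero {F G : C ⥤ D} [F.Additive] [G.Additive]
    (α : F ⟶ G) (X : C) :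
    (NatTrans.leftDerived α 0).app X ≫ G.fromLeftDerivedZero.app X =
      F.fromLeftDerivedZero.app X ≫ α.app X := by
  let P := projectiveResolution X
  rw [P.leftDerived_app_eq α 0, P.fromLeftDerivedZero_eq G, P.fromLeftDerivedZero_eq F]
  simp only [Category.assoc, Iso.inv_hom_id_assoc]
  congr 1
  simp only [HomologicalComplex.isoHomologyι_hom]
  erw [HomologicalComplex.homologyι_naturality_assoc]
  congr 1
  rw [← cancel_epi (HomologicalComplex.pOpcycles _ _)]
  simp only [HomologicalComplex.p_opcyclesMap_assoc, NatTrans.mapHomologicalComplex_app_f,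
    ProjectiveResolution.pOpcycles_comp_fromLeftDerivedZero',
    ProjectiveResolution.pOpcycles_comp_fromLeftDerivedZero'_assoc]
  exact (α.naturality _).symm

end General

universe u
variable {R : Type u} [CommRing R]

section Iso

variable {M : ModuleCat.{u} R} (P : ProjectiveResolution M)

/-- `Tor_n(N, M) ≅ H_n(N ⊗ P•)`. -/
noncomputable def torIso (N : ModuleCat.{u} R) (n : ℕ) :
    ((Tor (ModuleCat.{u} R) n).obj N).obj M ≅ (cx P N).homology n :=
  P.isoLeftDerivedObj (tL N) n

lemma torIso_hom_naturality_aux {N N' : ModuleCat.{u} R} (f : N ⟶ N') (n : ℕ) :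
    (NatTrans.leftDerived ((tensoringLeft (ModuleCat.{u} R)).map f) n).app M ≫
        (P.isoLeftDerivedObj (tL N') n).hom =
      (P.isoLeftDerivedObj (tL N) n).hom ≫ HomologicalComplex.homologyMap (cxMap P f) n := by
  rw [P.leftDerived_app_eq ((tensoringLeft (ModuleCat.{u} R)).map f) n]
  rw [Category.assoc, Category.assoc, Iso.inv_hom_id, Category.comp_id]
  rfl

lemma torIso_hom_naturality {N N' : ModuleCat.{u} R} (f : N ⟶ N') (n : ℕ) :
    ((Tor (ModuleCat.{u} R) n).map f).app M ≫ (torIso P N' n).hom =
      (torIso P N n).hom ≫ HomologicalComplex.homologyMap (cxMap P f) n :=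
  torIso_hom_naturality_aux P f n

lemma torIso_inv_naturality {N N' : ModuleCat.{u} R} (f : N ⟶ N') (n : ℕ) :
    (torIso P N n).inv ≫ ((Tor (ModuleCat.{u} R) n).map f).app M =
      HomologicalComplex.homologyMap (cxMap P f) n ≫ (torIso P N' n).inv := by
  rw [← cancel_mono (torIso P N' n).hom, Category.assoc, torIso_hom_naturality,
    Iso.inv_hom_id_assoc, Category.assoc, Iso.inv_hom_id, Category.comp_id]

end Iso

section LES

lemma hrel (n : ℕ) : (ComplexShape.down ℕ).Rel (n + 1) n := by simp

variable {S : ShortComplex (ModuleCat.{u} R)} (hS : S.ShortExact) (M : ModuleCat.{u} R)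

/-- The connecting homomorphism `Tor_{n+1}(S.X₃, M) ⟶ Tor_n(S.X₁, M)`. -/
noncomputable def torδ (n : ℕ) :
    ((Tor (ModuleCat.{u} R) (n + 1)).obj S.X₃).obj M ⟶ ((Tor (ModuleCat.{u} R) n).obj S.X₁).obj M :=
  (torIso (projectiveResolution M) S.X₃ (n + 1)).hom ≫
    (cxShortComplex_shortExact (projectiveResolution M) hS).δ (n + 1) n (hrel n) ≫
    (torIso (projectiveResolution M) S.X₁ n).inv

lemma tor_map_comp_zero (S : ShortComplex (ModuleCat.{u} R)) (n : ℕ) :
    ((Tor (ModuleCat.{u} R) n).map S.f).app M ≫ ((Tor (ModuleCat.{u} R) n).map S.g).app M = 0 := by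
  let P := projectiveResolution M
  rw [← cancel_mono (torIso P S.X₃ n).hom, Category.assoc, torIso_hom_naturality,
    reassoc_of% (torIso_hom_naturality P S.f n), ← HomologicalComplex.homologyMap_comp,
    ← cxMap_comp, S.zero, cxMap_zero, HomologicalComplex.homologyMap_zero, comp_zero, zero_comp]

include hS in
lemma tor_exact₂ (n : ℕ) :
    (ShortComplex.mk (((Tor (ModuleCat.{u} R) n).map S.f).app M)
      (((Tor (ModuleCat.{u} R) n).map S.g).app M) (tor_map_comp_zero M S n)).Exact := by
  let P := projectiveResolution M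
  refine ShortComplex.exact_of_iso ?_ ((cxShortComplex_shortExact P hS).homology_exact₂ n)
  refine ShortComplex.isoMk (torIso P S.X₁ n).symm (torIso P S.X₂ n).symm (torIso P S.X₃ n).symm
    ?_ ?_
  · exact (torIso_inv_naturality P S.f n)
  · exact (torIso_inv_naturality P S.g n)

lemma torδ_comp (n : ℕ) : torδ hS M n ≫ ((Tor (ModuleCat.{u} R) n).map S.f).app M = 0 := by
  let P := projectiveResolution M
  have := (cxShortComplex_shortExact P hS).δ_comp (n + 1) n (hrel n)
  change _ ≫ HomologicalComplex.homologyMap (cxMap P S.f) n = 0 at this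
  rw [torδ, Category.assoc, Category.assoc, torIso_inv_naturality, reassoc_of% this, zero_comp, comp_zero]

lemma comp_torδ (n : ℕ) : ((Tor (ModuleCat.{u} R) (n + 1)).map S.g).app M ≫ torδ hS M n = 0 := by
  let P := projectiveResolution M
  have := (cxShortComplex_shortExact P hS).comp_δ (n + 1) n (hrel n)
  change HomologicalComplex.homologyMap (cxMap P S.g) (n + 1) ≫ _ = 0 at this
  rw [torδ, reassoc_of% (torIso_hom_naturality P S.g (n + 1)), reassoc_of% this, zero_comp, comp_zero]

lemma tor_exact₁ (n : ℕ) :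
    (ShortComplex.mk (torδ hS M n) (((Tor (ModuleCat.{u} R) n).map S.f).app M)
      (torδ_comp hS M n)).Exact := by
  let P := projectiveResolution M
  refine ShortComplex.exact_of_iso ?_
    ((cxShortComplex_shortExact P hS).homology_exact₁ (n + 1) n (hrel n))
  refine ShortComplex.isoMk (torIso P S.X₃ (n + 1)).symm (torIso P S.X₁ n).symm
    (torIso P S.X₂ n).symm ?_ ?_
  · dsimp only [Iso.symm_hom]
    rw [torδ, Iso.inv_hom_id_assoc]
  · exact (torIso_inv_naturality P S.f n)

lemma tor_exact₃ (n : ℕ) :
    (ShortComplex.mk (((Tor (ModuleCat.{u} R) (n + 1)).map S.g).app M) (torδ hS M n)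
      (comp_torδ hS M n)).Exact := by
  let P := projectiveResolution M
  refine ShortComplex.exact_of_iso ?_
    ((cxShortComplex_shortExact P hS).homology_exact₃ (n + 1) n (hrel n))
  refine ShortComplex.isoMk (torIso P S.X₂ (n + 1)).symm (torIso P S.X₃ (n + 1)).symm
    (torIso P S.X₁ n).symm ?_ ?_
  · exact (torIso_inv_naturality P S.g (n + 1))
  · dsimp only [Iso.symm_hom]
    rw [torδ, Iso.inv_hom_id_assoc]

end LES

end Groth.Agent.Helper18.TorLib
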